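import Groth.Prelude.Def_SGA4a
import Mathlib.CategoryTheory.Sites.LocallyBijective
import Mathlib.CategoryTheory.Sites.Whiskering
import Mathlib.CategoryTheory.Sites.ConcreteSheafification
import Mathlib.CategoryTheory.Limits.Types.Products
import Mathlib.CategoryTheory.Adjunction.Restrict
import Mathlib.CategoryTheory.Comma.Over.Pullback
import Mathlib.CategoryTheory.Limits.Preserves.Shapes.BinaryProducts
import Mathlib.CategoryTheory.Limits.Types.Products

/-!
# Open and closed complement in a topos of sheaves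

For a subterminal sheaf `U`, the closed complement is the category of sheaves for the topology
`J' = {S | S ⊔ U_c covers}`; its reflector is left exact, and together with `U ⨯ -` it is conservative.
-/

set_option autoImplicit false

universe u

open CategoryTheory CategoryTheory.Limits Opposite

namespace Groth.Agent.Lib.OpenClosed

variable {C : Type u} [SmallCategory C] {J : GrothendieckTopology C}

/-- Binary products of sheaves are computed pointwise. -/
noncomputable def prodEquiv (U X : Sheaf J (Type u)) (c : Cᵒᵖ) :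
    (U ⨯ X).obj.obj c ≃ U.obj.obj c × X.obj.obj c :=
  (PreservesLimitPair.iso (sheafToPresheaf J (Type u) ⋙ (evaluation _ _).obj c) U X ≪≫
    Types.binaryProductIso _ _).toEquiv

theorem prodEquiv_fst (U X : Sheaf J (Type u)) (c : Cᵒᵖ) (z : (U ⨯ X).obj.obj c) :
    (prodEquiv U X c z).1 = (prod.fst : U ⨯ X ⟶ U).hom.app c z := by
  let T : Sheaf J (Type u) ⥤ Type u := (sheafToPresheaf J (Type u) ⋙ (evaluation _ _).obj c)
  show ((PreservesLimitPair.iso T U X ≪≫ Types.binaryProductIso _ _).hom z).1 = _
  simp only [Iso.trans_hom, PreservesLimitPair.iso_hom, types_comp_apply,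
    Types.binaryProductIso_hom_comp_fst_apply]
  exact congr($(prodComparison_fst T (A := U) (B := X)) z)

theorem prodEquiv_snd (U X : Sheaf J (Type u)) (c : Cᵒᵖ) (z : (U ⨯ X).obj.obj c) :
    (prodEquiv U X c z).2 = (prod.snd : U ⨯ X ⟶ X).hom.app c z := by
  let T : Sheaf J (Type u) ⥤ Type u := (sheafToPresheaf J (Type u) ⋙ (evaluation _ _).obj c)
  show ((PreservesLimitPair.iso T U X ≪≫ Types.binaryProductIso _ _).hom z).2 = _
  simp only [Iso.trans_hom, PreservesLimitPair.iso_hom, types_comp_apply,
    Types.binaryProductIso_hom_comp_snd_apply]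
  exact congr($(prodComparison_snd T (A := U) (B := X)) z)

theorem isIso_iff_bijective {F G : Sheaf J (Type u)} (f : F ⟶ G) :
    IsIso f ↔ ∀ c, Function.Bijective (f.hom.app c) := by
  rw [← isIso_iff_of_reflects_iso f (sheafToPresheaf J (Type u)), NatTrans.isIso_iff_isIso_app]
  exact forall_congr' fun c => CategoryTheory.isIso_iff_bijective _

variable (U : Sheaf J (Type u))

theorem isIso_prodMap_iff {X Y : Sheaf J (Type u)} (m : X ⟶ Y) :
    IsIso (prod.map (𝟙 U) m) ↔
      ∀ c, Nonempty (U.obj.obj c) → Function.Bijective (m.hom.app c) := by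
  rw [isIso_iff_bijective]
  refine forall_congr' fun c => ?_
  have key : ∀ z, prodEquiv U Y c ((prod.map (𝟙 U) m).hom.app c z) =
      ((prodEquiv U X c z).1, m.hom.app c (prodEquiv U X c z).2) := fun z => by
    refine Prod.ext ?_ ?_
    · simp only [prodEquiv_fst]
      exact congrArg (fun g : U ⨯ X ⟶ U => g.hom.app c z) ((prod.map_fst (𝟙 U) m).trans (Category.comp_id _))
    · simp only [prodEquiv_snd]
      exact congrArg (fun g : U ⨯ X ⟶ Y => g.hom.app c z) (prod.map_snd (𝟙 U) m)
  have e : Function.Bijective ((prod.map (𝟙 U) m).hom.app c) ↔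
      Function.Bijective (Prod.map (id : U.obj.obj c → U.obj.obj c) (fun x => m.hom.app c x)) := by
    rw [← Function.Bijective.of_comp_iff' (prodEquiv U Y c).bijective,
      show prodEquiv U Y c ∘ _ = Prod.map id (fun x => m.hom.app c x) ∘ prodEquiv U X c from
        funext key, Function.Bijective.of_comp_iff _ (prodEquiv U X c).bijective]
  rw [e]
  constructor
  · intro h ⟨x⟩
    constructor
    · intro a b hab
      exact congrArg Prod.snd (h.1 (a₁ := (x, a)) (a₂ := (x, b)) (by simp [hab]))
    · intro b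
      obtain ⟨⟨_, a⟩, ha⟩ := h.2 (x, b)
      exact ⟨a, congrArg Prod.snd ha⟩
  · intro h
    constructor
    · rintro ⟨x, a⟩ ⟨x', a'⟩ hab
      simp only [Prod.map, id, Prod.mk.injEq] at hab ⊢
      exact ⟨hab.1, (h ⟨x⟩).1 hab.2⟩
    · rintro ⟨x, b⟩
      obtain ⟨a, rfl⟩ := (h ⟨x⟩).2 b
      exact ⟨(x, a), rfl⟩

theorem subsingleton_of_isOpen (hU : SGA4.IsOpen U) (c : Cᵒᵖ) : Subsingleton (U.obj.obj c) := by
  have : Mono (terminal.from U) := hU
  let T := sheafToPresheaf J (Type u) ⋙ (evaluation _ _).obj c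
  have h1 : Mono (T.map (terminal.from U)) := inferInstance
  have h2 : Subsingleton (T.obj (⊤_ (Sheaf J (Type u)))) :=
    (((Types.isTerminalEquivUnique _) (IsTerminal.isTerminalObj T _ terminalIsTerminal))).instSubsingleton
  exact ⟨fun a b => (mono_iff_injective _).1 h1 (Subsingleton.elim (α := T.obj (⊤_ _)) _ _)⟩

variable {U}

theorem closedCompl_iff (hU : SGA4.IsOpen U) (X : Sheaf J (Type u)) :
    SGA4.closedCompl U X ↔ ∀ c, Nonempty (U.obj.obj c) → Nonempty (Unique (X.obj.obj c)) := by
  unfold SGA4.closedCompl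
  rw [isIso_iff_bijective]
  refine forall_congr' fun c => ?_
  have := subsingleton_of_isOpen U hU c
  have e : Function.Bijective ((prod.fst : U ⨯ X ⟶ U).hom.app c) ↔
      Function.Bijective (Prod.fst : U.obj.obj c × X.obj.obj c → U.obj.obj c) := by
    rw [← Function.Bijective.of_comp_iff Prod.fst (prodEquiv U X c).bijective,
      show Prod.fst ∘ prodEquiv U X c = fun z => (prod.fst : U ⨯ X ⟶ U).hom.app c z from
        funext fun z => prodEquiv_fst U X c z]
  rw [e]
  constructor
  · intro h ⟨x⟩
    obtain ⟨⟨_, a⟩, _⟩ := h.2 x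
    exact ⟨⟨⟨a⟩, fun b => congrArg Prod.snd (h.1 (a₁ := (x, b)) (a₂ := (x, a)) rfl)⟩⟩
  · intro h
    constructor
    · rintro ⟨x, a⟩ ⟨x', a'⟩ _
      obtain ⟨hq⟩ := h ⟨x⟩
      exact Prod.ext (Subsingleton.elim _ _) ((hq.uniq a).trans (hq.uniq a').symm)
    · intro x
      obtain ⟨hq⟩ := h ⟨x⟩
      exact ⟨(x, hq.default), rfl⟩

variable (U)

/-- The sieve of the maps into `c` over which `U` has a section. -/
def supp (c : C) : Sieve c where
  arrows d _ := Nonempty (U.obj.obj (op d))
  downward_closed := fun {_ _ _} hf g => hf.map (U.obj.map g.op)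

theorem supp_pullback {c d : C} (f : d ⟶ c) : (supp U c).pullback f = supp U d := rfl

/-- The topology whose sheaves form the closed complement. -/
def closedTop : GrothendieckTopology C where
  sieves c := {S | S ⊔ supp U c ∈ J c}
  top_mem' c := by
    show ⊤ ⊔ supp U c ∈ J c
    rw [top_sup_eq]; exact J.top_mem c
  pullback_stable' := fun {X Y S} f hS => by
    show S.pullback f ⊔ supp U Y ∈ J Y
    refine J.superset_covering ?_ (J.pullback_stable f hS)
    rintro Z g (h | h)
    · exact Or.inl h
    · exact Or.inr h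
  transitive' := fun {X S} hS R hR => by
    refine J.transitive hS _ fun Y f hf => ?_
    rcases hf with hf | hf
    · refine J.superset_covering ?_ (hR hf)
      rintro Z g (h | h)
      · exact Or.inl h
      · exact Or.inr h
    · refine J.superset_covering ?_ (J.top_mem Y)
      intro Z g _
      exact Or.inr (hf.map (U.obj.map g.op))

theorem mem_closedTop {c : C} {S : Sieve c} : S ∈ closedTop U c ↔ S ⊔ supp U c ∈ J c := Iff.rfl

theorem le_closedTop : J ≤ closedTop U := fun _ _ hS => J.superset_covering le_sup_left hS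

variable {U}

theorem isSheaf_closedTop_iff (X : Cᵒᵖ ⥤ Type u) :
    Presheaf.IsSheaf (closedTop U) X ↔
      Presheaf.IsSheaf J X ∧ ∀ c, Nonempty (U.obj.obj c) → Nonempty (Unique (X.obj c)) := by
  rw [isSheaf_iff_isSheaf_of_type, isSheaf_iff_isSheaf_of_type]
  constructor
  · intro h
    refine ⟨Presieve.isSheaf_of_le _ (le_closedTop U) h, fun c hc => ?_⟩
    have hb : (⊥ : Sieve c.unop) ∈ closedTop U c.unop := by
      rw [mem_closedTop, bot_sup_eq]
      refine J.superset_covering ?_ (J.top_mem _)
      intro Z g _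
      exact hc.map (U.obj.map g.op)
    obtain ⟨a, -, ha⟩ := h _ hb (fun _ _ hf => hf.elim) (fun _ _ _ _ _ _ _ hf => hf.elim)
    exact ⟨⟨⟨a⟩, fun b => ha b (fun _ _ hf => hf.elim)⟩⟩
  · rintro ⟨h, hu⟩ c S hS x hx
    classical
    have hss : ∀ {d : C} (a b : X.obj (op d)), Nonempty (U.obj.obj (op d)) → a = b := fun {d} a b hd => by
      obtain ⟨hq⟩ := hu (op d) hd
      exact (hq.uniq a).trans (hq.uniq b).symm
    let x' : Presieve.FamilyOfElements X (S ⊔ supp U c).arrows := fun d f hf =>
      if hS' : S f then x f hS' else (hu (op d) (hf.resolve_left hS')).some.default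
    have hx' : x'.Compatible := by
      intro Y₁ Y₂ Z g₁ g₂ f₁ f₂ hf₁ hf₂ heq
      by_cases hZ : Nonempty (U.obj.obj (op Z))
      · exact hss _ _ hZ
      · have h₁ : S f₁ := hf₁.resolve_right fun h1 => hZ (h1.map (U.obj.map g₁.op))
        have h₂ : S f₂ := hf₂.resolve_right fun h1 => hZ (h1.map (U.obj.map g₂.op))
        simp only [x', dif_pos h₁, dif_pos h₂]
        exact hx g₁ g₂ h₁ h₂ heq
    obtain ⟨t, ht, htu⟩ := h _ hS x' hx'
    refine ⟨t, fun Y f hf => (ht f (Or.inl hf)).trans (dif_pos hf), fun t' ht' => htu t' fun Y f hf => ?_⟩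
    by_cases hS' : S f
    · exact (ht' f hS').trans (dif_pos hS').symm
    · exact hss _ _ (hf.resolve_left hS')

theorem closedCompl_iff_isSheaf (hU : SGA4.IsOpen U) (X : Sheaf J (Type u)) :
    SGA4.closedCompl U X ↔ Presheaf.IsSheaf (closedTop U) X.obj := by
  rw [closedCompl_iff hU, isSheaf_closedTop_iff]
  exact ⟨fun h => ⟨X.property, h⟩, fun h => h.2⟩

/-- The inclusion of sheaves for the closed topology, corestricted. -/
noncomputable def toClosed (hU : SGA4.IsOpen U) :
    Sheaf (closedTop U) (Type u) ⥤ (SGA4.closedCompl U).FullSubcategory where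
  obj X := ⟨⟨X.obj, ((isSheaf_closedTop_iff _).1 X.property).1⟩,
    (closedCompl_iff_isSheaf hU _).2 X.property⟩
  map f := ⟨⟨f.hom⟩⟩

/-- Its inverse. -/
noncomputable def ofClosed (hU : SGA4.IsOpen U) :
    (SGA4.closedCompl U).FullSubcategory ⥤ Sheaf (closedTop U) (Type u) where
  obj X := ⟨X.obj.obj, (closedCompl_iff_isSheaf hU _).1 X.property⟩
  map f := ⟨f.hom.hom⟩

/-- The closed complement is the category of sheaves for `closedTop`. -/
noncomputable def closedEquiv (hU : SGA4.IsOpen U) :
    Sheaf (closedTop U) (Type u) ≌ (SGA4.closedCompl U).FullSubcategory :=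
  CategoryTheory.Equivalence.mk (toClosed hU) (ofClosed hU) (Iso.refl _) (Iso.refl _)

/-- The reflector into the closed complement. -/
noncomputable def reflect (hU : SGA4.IsOpen U) :
    Sheaf J (Type u) ⥤ (SGA4.closedCompl U).FullSubcategory :=
  (sheafToPresheaf J (Type u) ⋙ presheafToSheaf (closedTop U) (Type u)) ⋙ toClosed hU

/-- The adjunction. -/
noncomputable def reflectAdj (hU : SGA4.IsOpen U) : reflect hU ⊣ (SGA4.closedCompl U).ι :=
  (sheafificationAdjunction (closedTop U) (Type u)).restrictFullyFaithful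
    (iC := sheafToPresheaf J (Type u)) (iD := ofClosed hU) (fullyFaithfulSheafToPresheaf J (Type u))
    (closedEquiv hU).fullyFaithfulInverse (Iso.refl _) (Iso.refl _)

theorem preservesFiniteLimits_of_adj (hU : SGA4.IsOpen U)
    {L : Sheaf J (Type u) ⥤ (SGA4.closedCompl U).FullSubcategory}
    (adj : L ⊣ (SGA4.closedCompl U).ι) : PreservesFiniteLimits L := by
  have : (toClosed hU).IsEquivalence := (closedEquiv hU).isEquivalence_functor
  have : PreservesFiniteLimits (reflect hU) := by
    unfold reflect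
    have : PreservesFiniteLimits (toClosed hU) :=
      PreservesLimitsOfSize.preservesFiniteLimits.{0, 0} _
    have : PreservesFiniteLimits (sheafToPresheaf J (Type u)) :=
      PreservesLimitsOfSize.preservesFiniteLimits.{u, u} _
    have : PreservesFiniteLimits (sheafToPresheaf J (Type u) ⋙ presheafToSheaf (closedTop U) (Type u)) :=
      comp_preservesFiniteLimits _ _
    exact comp_preservesFiniteLimits _ _
  exact preservesFiniteLimits_of_natIso (Adjunction.leftAdjointUniq (reflectAdj hU) adj)

/-- Conservativity of `U ⨯ -` and the reflector. -/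
theorem isIso_of_isIso (hU : SGA4.IsOpen U)
    {L : Sheaf J (Type u) ⥤ (SGA4.closedCompl U).FullSubcategory}
    (adj : L ⊣ (SGA4.closedCompl U).ι) {X Y : Sheaf J (Type u)} (m : X ⟶ Y)
    (h1 : IsIso (prod.map (𝟙 U) m)) (h2 : IsIso (L.map m)) : IsIso m := by
  rw [isIso_prodMap_iff] at h1
  have h3 : IsIso ((reflect hU).map m) :=
    (NatIso.isIso_map_iff (Adjunction.leftAdjointUniq (reflectAdj hU) adj) m).2 h2
  have h4 : IsIso ((presheafToSheaf (closedTop U) (Type u)).map m.hom) := by
    have : (toClosed hU).IsEquivalence := (closedEquiv hU).isEquivalence_functor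
    exact (isIso_iff_of_reflects_iso _ (toClosed hU)).1 h3
  have hW : (closedTop U).W m.hom := (GrothendieckTopology.W_iff _ _).2 h4
  have := hW.isLocallyInjective
  have := hW.isLocallySurjective
  have hX := (isSheaf_iff_isSheaf_of_type J X.obj).1 X.property
  have hY := (isSheaf_iff_isSheaf_of_type J Y.obj).1 Y.property
  have hnat : ∀ {c d : C} (g : d ⟶ c) (x : X.obj.obj (op c)),
      m.hom.app (op d) (X.obj.map g.op x) = Y.obj.map g.op (m.hom.app (op c) x) := fun g x =>
    NatTrans.naturality_apply m.hom g.op x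
  have hinj : ∀ c, Function.Injective (m.hom.app c) := by
    intro c x y hxy
    refine (hX.isSeparated _ ((mem_closedTop U).1
      (Presheaf.equalizerSieve_mem (closedTop U) m.hom x y hxy))).ext fun d g hg => ?_
    rcases hg with h | h
    · exact h
    · exact (h1 (op d) h).1 (by rw [hnat g x, hnat g y, hxy])
  rw [isIso_iff_bijective]
  intro c
  refine ⟨hinj c, fun s => ?_⟩
  let S : Sieve c.unop := Presheaf.imageSieve m.hom s ⊔ supp U c.unop
  have hS : S ∈ J c.unop :=
    (mem_closedTop U).1 (Presheaf.imageSieve_mem (closedTop U) m.hom s)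
  have hex : ∀ (d : C) (g : d ⟶ c.unop), S g → ∃ t, m.hom.app (op d) t = Y.obj.map g.op s := by
    rintro d g (h | h)
    · exact h
    · exact (h1 (op d) h).2 _
  choose t ht using hex
  have hcomp : Presieve.FamilyOfElements.Compatible
      (P := X.obj) (R := S.arrows) fun d g hg => t d g hg := by
    intro Y₁ Y₂ Z g₁ g₂ f₁ f₂ hf₁ hf₂ heq
    apply hinj
    rw [hnat, hnat, ht, ht, ← Functor.map_comp_apply, ← Functor.map_comp_apply, ← op_comp,
      ← op_comp, heq]
  obtain ⟨a, ha, -⟩ := hX _ hS _ hcomp
  refine ⟨a, (hY.isSeparated _ hS).ext fun d g hg => ?_⟩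
  show Y.obj.map g.op _ = _
  rw [← hnat g a, ha g hg, ht]

end Groth.Agent.Lib.OpenClosed
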