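import Groth.Agent.Lib.OpenClosed.Basic
import Mathlib.CategoryTheory.Sites.SheafHom
import Mathlib.CategoryTheory.Limits.Types.Pullbacks
import Mathlib.CategoryTheory.Adjunction.Triple
import Mathlib.CategoryTheory.Adjunction.FullyFaithful
import Mathlib.CategoryTheory.Limits.Preserves.Shapes.Pullbacks

/-!
# The pushout `U ⨿_{U × X} X` and the closed complement; gluing
-/

set_option autoImplicit false

universe u

open CategoryTheory CategoryTheory.Limits Opposite

namespace Groth.Agent.Lib.OpenClosed

variable {C : Type u} [SmallCategory C] {J : GrothendieckTopology C} {U : Sheaf J (Type u)}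

/-- `U ⨿_{U × X} X`. -/
noncomputable abbrev push (U X : Sheaf J (Type u)) : Sheaf J (Type u) :=
  pushout (prod.fst : U ⨯ X ⟶ U) (prod.snd : U ⨯ X ⟶ X)

theorem push_mem (hU : SGA4.IsOpen U) (X : Sheaf J (Type u)) :
    SGA4.closedCompl U (push U X) := by
  rw [closedCompl_iff hU]
  intro c ⟨e⟩
  have hU' := subsingleton_of_isOpen U hU
  let i : U ⟶ push U X := pushout.inl _ _
  let W : Sheaf J (Type u) := ⟨presheafHom U.obj (push U X).obj, (push U X).property.hom U.obj⟩
  let r : push U X ⟶ W := ⟨{
    app := fun d => ↾fun p =>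
      { app := fun g => ↾fun _ => (push U X).obj.map g.unop.hom.op p
        naturality := fun g g' h => by
          ext t
          show (push U X).obj.map g'.unop.hom.op p =
            (push U X).obj.map h.unop.left.op ((push U X).obj.map g.unop.hom.op p)
          rw [← Functor.map_comp_apply, ← op_comp, Over.w h.unop] }
    naturality := fun d d' φ => by
      ext p
      apply NatTrans.ext; funext g
      ext t
      show (push U X).obj.map g.unop.hom.op ((push U X).obj.map φ p) =
        (push U X).obj.map (g.unop.hom ≫ φ.unop).op p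
      rw [← Functor.map_comp_apply]
      rfl }⟩
  let s : push U X ⟶ W := ⟨{
    app := fun d => ↾fun _ =>
      { app := fun g => ↾fun t => i.hom.app (op g.unop.left) t
        naturality := fun g g' h => by
          ext t
          exact NatTrans.naturality_apply i.hom h.unop.left.op t }
    naturality := fun d d' φ => rfl }⟩
  have hrs : r = s := by
    refine pushout.hom_ext ?_ ?_
    · apply InducedCategory.hom_ext; ext d x; apply NatTrans.ext; funext g; ext t
      show (push U X).obj.map g.unop.hom.op (i.hom.app d x) = i.hom.app (op g.unop.left) t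
      rw [← NatTrans.naturality_apply i.hom]
      exact congrArg _ ((hU' _).elim _ _)
    · apply InducedCategory.hom_ext; ext d x; apply NatTrans.ext; funext g; ext t
      show (push U X).obj.map g.unop.hom.op ((pushout.inr _ _ : X ⟶ push U X).hom.app d x) =
        i.hom.app (op g.unop.left) t
      rw [← NatTrans.naturality_apply (pushout.inr _ _ : X ⟶ push U X).hom]
      let z := (prodEquiv U X (op g.unop.left)).symm (t, X.obj.map g.unop.hom.op x)
      have h := congrArg (fun k : U ⨯ X ⟶ push U X => k.hom.app (op g.unop.left) z)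
        (pushout.condition (f := (prod.fst : U ⨯ X ⟶ U)) (g := (prod.snd : U ⨯ X ⟶ X)))
      have hf := prodEquiv_fst U X (op g.unop.left) z
      have hs := prodEquiv_snd U X (op g.unop.left) z
      simp only [z, Equiv.apply_symm_apply] at hf hs
      rw [hs]
      conv_rhs => rw [hf]
      exact h.symm
  refine ⟨⟨⟨i.hom.app c e⟩, fun p => ?_⟩⟩
  have h := congrArg (fun k : push U X ⟶ W =>
    (k.hom.app c p).app (op (Over.mk (𝟙 c.unop))) e) hrs
  change (push U X).obj.map (𝟙 c.unop).op p = i.hom.app c e at h
  rwa [op_id, Functor.map_id_apply] at h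

theorem to_closed_ext (hU : SGA4.IsOpen U) {Z : Sheaf J (Type u)} (hZ : SGA4.closedCompl U Z)
    (a b : U ⟶ Z) : a = b := by
  apply InducedCategory.hom_ext; ext c x
  obtain ⟨hq⟩ := (closedCompl_iff hU Z).1 hZ c ⟨x⟩
  exact (hq.uniq _).trans (hq.uniq _).symm

/-- The map from `U` to an object of the closed complement. -/
noncomputable def toClosedObj {Z : Sheaf J (Type u)} (hZ : SGA4.closedCompl U Z) : U ⟶ Z :=
  have : IsIso (prod.fst : U ⨯ Z ⟶ U) := hZ
  inv (prod.fst : U ⨯ Z ⟶ U) ≫ prod.snd

theorem mem_of_iso (hU : SGA4.IsOpen U) {X Y : Sheaf J (Type u)} (e : X ≅ Y)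
    (hX : SGA4.closedCompl U X) : SGA4.closedCompl U Y := by
  rw [closedCompl_iff hU] at hX ⊢
  intro c hc
  obtain ⟨hq⟩ := hX c hc
  have : Unique (((sheafToPresheaf J (Type u)).obj X).obj c) := hq
  exact ⟨(((sheafToPresheaf J (Type u)).mapIso e).app c).toEquiv.symm.unique⟩

theorem isIso_prodMap_of_mem (hU : SGA4.IsOpen U) {X Y : Sheaf J (Type u)}
    (hX : SGA4.closedCompl U X) (hY : SGA4.closedCompl U Y) (m : X ⟶ Y) :
    IsIso (prod.map (𝟙 U) m) := by
  rw [isIso_prodMap_iff]
  intro c hc
  obtain ⟨hx⟩ := (closedCompl_iff hU X).1 hX c hc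
  obtain ⟨hy⟩ := (closedCompl_iff hU Y).1 hY c hc
  exact ⟨fun a b _ => (hx.uniq a).trans (hx.uniq b).symm,
    fun b => ⟨hx.default, (hy.uniq _).trans (hy.uniq b).symm⟩⟩

variable (hU : SGA4.IsOpen U) {L : Sheaf J (Type u) ⥤ (SGA4.closedCompl U).FullSubcategory}
  (adj : L ⊣ (SGA4.closedCompl U).ι)

include hU in
theorem push_cond (X : Sheaf J (Type u)) : (prod.fst : U ⨯ X ⟶ U) ≫ toClosedObj (L.obj X).property =
    (prod.snd : U ⨯ X ⟶ X) ≫ adj.unit.app X := by
  apply InducedCategory.hom_ext; ext c z
  obtain ⟨hq⟩ := (closedCompl_iff hU _).1 (L.obj X).property c ⟨(prodEquiv U X c z).1⟩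
  exact (hq.uniq _).trans (hq.uniq _).symm

/-- The pushout is the reflection. -/
noncomputable def pushIso (X : Sheaf J (Type u)) :
    push U X ≅ (L.obj X).obj where
  hom := pushout.desc (toClosedObj (L.obj X).property) (adj.unit.app X) (push_cond hU adj X)
  inv := ((adj.homEquiv X ⟨push U X, push_mem hU X⟩).symm (pushout.inr _ _)).hom
  hom_inv_id := by
    refine pushout.hom_ext (to_closed_ext hU (push_mem hU X) _ _) ?_
    rw [pushout.inr_desc_assoc, Category.comp_id]
    exact ((adj.homEquiv_unit _ _ _).symm.trans ((adj.homEquiv X ⟨push U X, push_mem hU X⟩).apply_symm_apply _))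
  inv_hom_id := by
    have hd : pushout.inr (prod.fst : U ⨯ X ⟶ U) (prod.snd : U ⨯ X ⟶ X) ≫
        pushout.desc (toClosedObj (L.obj X).property) (adj.unit.app X) (push_cond hU adj X) = adj.unit.app X :=
      pushout.inr_desc _ _ _
    let φ : (⟨push U X, push_mem hU X⟩ : (SGA4.closedCompl U).FullSubcategory) ⟶ L.obj X :=
      ObjectProperty.homMk (pushout.desc (toClosedObj (L.obj X).property) (adj.unit.app X) (push_cond hU adj X))
    have h : (adj.homEquiv X ⟨push U X, push_mem hU X⟩).symm (pushout.inr _ _) ≫ φ = 𝟙 (L.obj X) := by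
      apply (adj.homEquiv X (L.obj X)).injective
      rw [Adjunction.homEquiv_naturality_right, Equiv.apply_symm_apply, adj.homEquiv_id]
      exact hd
    exact congrArg (fun k : L.obj X ⟶ L.obj X => k.hom) h

theorem inr_pushIso (X : Sheaf J (Type u)) :
    pushout.inr _ _ ≫ (pushIso hU adj X).hom = adj.unit.app X :=
  pushout.inr_desc _ _ _

include hU adj in
theorem isIso_map_inr (X : Sheaf J (Type u)) :
    IsIso (L.map (pushout.inr (prod.fst : U ⨯ X ⟶ U) (prod.snd : U ⨯ X ⟶ X))) := by
  have h : IsIso (L.map (adj.unit.app X)) := inferInstance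
  rw [← inr_pushIso hU adj X, Functor.map_comp] at h
  exact IsIso.of_isIso_comp_right _ (L.map (pushIso hU adj X).hom)

include hU in
theorem mem_iff_isIso_inr (X : Sheaf J (Type u)) :
    SGA4.closedCompl U X ↔ IsIso (pushout.inr (prod.fst : U ⨯ X ⟶ U) (prod.snd : U ⨯ X ⟶ X)) := by
  constructor
  · intro hX
    refine isIso_of_isIso hU (reflectAdj hU) _ (isIso_prodMap_of_mem hU hX (push_mem hU X) _)
      (isIso_map_inr hU (reflectAdj hU) X)
  · intro h
    exact mem_of_iso hU (asIso (pushout.inr (prod.fst : U ⨯ X ⟶ U) (prod.snd : U ⨯ X ⟶ X))).symm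
      (push_mem hU X)

theorem isPullback_types {W X Y Z : Sheaf J (Type u)} {f : W ⟶ X} {g : W ⟶ Y} {h : X ⟶ Z}
    {k : Y ⟶ Z} (H : IsPullback f g h k) (c : Cᵒᵖ) :
    IsPullback (f.hom.app c) (g.hom.app c) (h.hom.app c) (k.hom.app c) :=
  H.map (sheafToPresheaf J (Type u) ⋙ (evaluation _ _).obj c)

include hU in
/-- The square of the pushouts is cartesian iff `U ⨯ m` is invertible. -/
theorem isPullback_iff_isIso {X X' : Sheaf J (Type u)} (m : X ⟶ X') (k : push U X ⟶ push U X')
    (hk : pushout.inr _ _ ≫ k = m ≫ pushout.inr _ _) :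
    IsPullback m (pushout.inr _ _) (pushout.inr _ _) k ↔ IsIso (prod.map (𝟙 U) m) := by
  constructor
  · intro H
    rw [isIso_prodMap_iff]
    intro c hc
    obtain ⟨-, hinj, hsurj⟩ := (Types.isPullback_iff _ _ _ _).1 (isPullback_types H c)
    obtain ⟨hp⟩ := (closedCompl_iff hU _).1 (push_mem hU X) c hc
    obtain ⟨hp'⟩ := (closedCompl_iff hU _).1 (push_mem hU X') c hc
    refine ⟨fun a b hab => hinj a b ⟨hab, (hp.uniq _).trans (hp.uniq _).symm⟩, fun b => ?_⟩
    obtain ⟨a, ha, -⟩ := hsurj b hp.default ((hp'.uniq _).trans (hp'.uniq _).symm)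
    exact ⟨a, ha⟩
  · intro h
    have hw : m ≫ pushout.inr _ _ = pushout.inr _ _ ≫ k := hk.symm
    let d : X ⟶ pullback (pushout.inr _ _ : X' ⟶ push U X') k := pullback.lift m (pushout.inr _ _) hw
    have hd : IsIso d := by
      refine isIso_of_isIso hU (reflectAdj hU) d ?_ ?_
      · rw [isIso_prodMap_iff] at h ⊢
        intro c hc
        obtain ⟨-, hinj, -⟩ := (Types.isPullback_iff _ _ _ _).1
          (isPullback_types (IsPullback.of_hasPullback (pushout.inr _ _ : X' ⟶ push U X') k) c)
        obtain ⟨hp⟩ := (closedCompl_iff hU _).1 (push_mem hU X) c hc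
        have hfst : ∀ a, (pullback.fst (pushout.inr _ _ : X' ⟶ push U X') k).hom.app c (d.hom.app c a) =
            m.hom.app c a := fun a =>
          congrArg (fun q : X ⟶ X' => q.hom.app c a) (pullback.lift_fst _ _ hw)
        refine ⟨fun a b hab => (h c hc).1 (by rw [← hfst, ← hfst, hab]), fun z => ?_⟩
        obtain ⟨a, ha⟩ := (h c hc).2 ((pullback.fst (pushout.inr _ _ : X' ⟶ push U X') k).hom.app c z)
        exact ⟨a, hinj _ _ ⟨(hfst a).trans ha, (hp.uniq _).trans (hp.uniq _).symm⟩⟩
      · have := preservesFiniteLimits_of_adj hU (reflectAdj hU)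
        have H := (IsPullback.of_hasPullback (pushout.inr _ _ : X' ⟶ push U X') k).map (reflect hU)
        have := isIso_map_inr hU (reflectAdj hU) X'
        have hs : IsIso ((reflect hU).map (pullback.snd (pushout.inr _ _ : X' ⟶ push U X') k)) :=
          H.isIso_snd_of_isIso
        have := isIso_map_inr hU (reflectAdj hU) X
        have hc : (reflect hU).map d ≫ (reflect hU).map (pullback.snd _ k) =
            (reflect hU).map (pushout.inr _ _) := by
          rw [← Functor.map_comp, pullback.lift_snd]
        exact IsIso.of_isIso_fac_right hc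
    exact IsPullback.of_iso_pullback ⟨hw⟩ (asIso d) (pullback.lift_fst _ _ hw) (pullback.lift_snd _ _ hw)

theorem full_forget (hU : SGA4.IsOpen U) : (Over.forget U).Full where
  map_surjective {A B} g := by
    refine ⟨Over.homMk g ?_, rfl⟩
    apply InducedCategory.hom_ext; ext c x
    exact (subsingleton_of_isOpen U hU c).elim _ _

theorem isIso_star_iff {X Y : Sheaf J (Type u)} (m : X ⟶ Y) :
    IsIso ((Over.star U).map m) ↔ IsIso (prod.map (𝟙 U) m) := by
  rw [← isIso_iff_of_reflects_iso ((Over.star U).map m) (Over.forget U)]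
  exact iff_of_eq (congrArg IsIso (Over.star_map_left U m))

section glue

variable (U) [(Over.star U).IsLeftAdjoint]

/-- `j_*`. -/
noncomputable abbrev jPush : Over U ⥤ Sheaf J (Type u) := (Over.star U).rightAdjoint

/-- `j^* ⊣ j_*`. -/
noncomputable abbrev jAdj : Over.star U ⊣ jPush U := Adjunction.ofIsLeftAdjoint _

variable (L) in
/-- `X ↦ (i^*X, j^*X, i^*X ⟶ i^*j_*j^*X)`. -/
noncomputable def toGlue : Sheaf J (Type u) ⥤
    Comma (𝟭 (SGA4.closedCompl U).FullSubcategory) (jPush U ⋙ L) where
  obj X := { left := L.obj X, right := (Over.star U).obj X, hom := L.map ((jAdj U).unit.app X) }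
  map {X Y} m :=
    { left := L.map m
      right := (Over.star U).map m
      w := by
        show L.map m ≫ L.map ((jAdj U).unit.app Y) =
          L.map ((jAdj U).unit.app X) ≫ L.map ((jPush U).map ((Over.star U).map m))
        rw [← L.map_comp, ← L.map_comp]
        exact congrArg L.map ((jAdj U).unit.naturality m) }
  map_id X := by ext <;> simp
  map_comp f g := by ext <;> simp

/-- The glued sheaf. -/
noncomputable def ofGlue : Comma (𝟭 (SGA4.closedCompl U).FullSubcategory) (jPush U ⋙ L) ⥤
    Sheaf J (Type u) where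
  obj T := pullback T.hom.hom (adj.unit.app ((jPush U).obj T.right))
  map {T T'} φ := pullback.map _ _ _ _ φ.left.hom ((jPush U).map φ.right)
    (L.map ((jPush U).map φ.right)).hom
    (congrArg (fun q => InducedCategory.Hom.hom q) φ.w).symm
    (adj.unit.naturality ((jPush U).map φ.right)).symm
  map_id T := by apply pullback.hom_ext <;> simp <;> rfl
  map_comp f g := by
    apply pullback.hom_ext
    · rw [Category.assoc]
      erw [pullback.lift_fst, pullback.lift_fst, pullback.lift_fst_assoc]
      simp
    · rw [Category.assoc]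
      erw [pullback.lift_snd, pullback.lift_snd, pullback.lift_snd_assoc]
      simp

include hU in
theorem isIso_star_unit : ∀ X, IsIso ((Over.star U).map ((jAdj U).unit.app X)) := by
  intro X
  have hH : (jPush U).FullyFaithful :=
    (Adjunction.Triple.mk (Over.forgetAdjStar U) (jAdj U)).fullyFaithfulEquiv
      (have := full_forget hU; Functor.FullyFaithful.ofFullyFaithful _)
  have := hH.full
  have := hH.faithful
  infer_instance

include hU in
theorem isIso_star_of_mem {A B : Sheaf J (Type u)} (hA : SGA4.closedCompl U A)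
    (hB : SGA4.closedCompl U B) (m : A ⟶ B) : IsIso ((Over.star U).map m) :=
  (isIso_star_iff m).2 (isIso_prodMap_of_mem hU hA hB m)

/-- The unit of the gluing equivalence. -/
noncomputable def glueUnit : 𝟭 (Sheaf J (Type u)) ⟶ toGlue U L ⋙ ofGlue U adj where
  app X := pullback.lift (adj.unit.app X) ((jAdj U).unit.app X) (adj.unit.naturality _).symm
  naturality X Y m := by
    apply pullback.hom_ext
    · simp only [ofGlue, toGlue, Functor.id_map, Functor.comp_map, Category.assoc]
      erw [pullback.lift_fst, pullback.lift_fst, pullback.lift_fst_assoc]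
      exact adj.unit.naturality m
    · simp only [ofGlue, toGlue, Functor.id_map, Functor.comp_map, Category.assoc]
      erw [pullback.lift_snd, pullback.lift_snd, pullback.lift_snd_assoc]
      exact (jAdj U).unit.naturality m

include hU in
theorem isIso_glueUnit (X : Sheaf J (Type u)) : IsIso ((glueUnit U adj).app X) := by
  let d := (glueUnit U adj).app X
  have h1 : d ≫ pullback.fst _ _ = adj.unit.app X := pullback.lift_fst _ _ _
  have h2 : d ≫ pullback.snd _ _ = (jAdj U).unit.app X := pullback.lift_snd _ _ _
  have H : IsPullback (pullback.fst _ _) (pullback.snd _ _) ((toGlue U L).obj X).hom.hom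
      (adj.unit.app ((jPush U).obj ((toGlue U L).obj X).right)) := IsPullback.of_hasPullback _ _
  refine isIso_of_isIso hU adj d ((isIso_star_iff d).1 ?_) ?_
  · have hb := (H.map (Over.star U)).isIso_snd_of_isIso
      (isIso_star_of_mem U hU ((toGlue U L).obj X).left.property
        (L.obj ((jPush U).obj ((toGlue U L).obj X).right)).property _)
    have hv := isIso_star_unit U hU X
    exact @IsIso.of_isIso_comp_right _ _ _ _ _ _ _ hb
      (((Over.star U).map_comp _ _).symm.trans (congrArg _ h2) ▸ hv)
  · have := preservesFiniteLimits_of_adj hU adj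
    have hb := (H.map L).isIso_fst_of_isIso (inferInstanceAs (IsIso (L.map (adj.unit.app _))))
    have hv : IsIso (L.map (adj.unit.app X)) := inferInstance
    exact @IsIso.of_isIso_comp_right _ _ _ _ _ _ _ hb
      ((L.map_comp _ _).symm.trans (congrArg _ h1) ▸ hv)

/-- The counit of the gluing equivalence. -/
noncomputable def glueCounit : ofGlue U adj ⋙ toGlue U L ⟶ 𝟭 _ where
  app T :=
    { left := L.map (pullback.fst _ _) ≫ adj.counit.app T.left
      right := (Over.star U).map (pullback.snd _ _) ≫ (jAdj U).counit.app T.right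
      w := by
        show (L.map (pullback.fst _ _) ≫ adj.counit.app T.left) ≫ T.hom =
          L.map ((jAdj U).unit.app _) ≫ L.map ((jPush U).map
            ((Over.star U).map (pullback.snd _ _) ≫ (jAdj U).counit.app T.right))
        have e1 : adj.counit.app T.left ≫ T.hom =
            L.map T.hom.hom ≫ adj.counit.app (L.obj ((jPush U).obj T.right)) :=
          (adj.counit.naturality T.hom).symm
        have e2 : (jAdj U).unit.app (pullback T.hom.hom (adj.unit.app ((jPush U).obj T.right))) ≫
            (jPush U).map ((Over.star U).map (pullback.snd _ _) ≫ (jAdj U).counit.app T.right) =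
              pullback.snd _ _ := by
          rw [Functor.map_comp]
          erw [(jAdj U).unit_naturality_assoc]
          exact (congrArg _ ((jAdj U).right_triangle_components T.right)).trans (Category.comp_id _)
        erw [← L.map_comp, e2]
        rw [Category.assoc, e1, ← L.map_comp_assoc, pullback.condition, L.map_comp_assoc,
          adj.left_triangle_components]
        exact Category.comp_id _ }
  naturality T T' φ := by
    apply CommaMorphism.ext
    · show L.map ((ofGlue U adj).map φ) ≫ L.map (pullback.fst _ _) ≫ adj.counit.app T'.left =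
        (L.map (pullback.fst _ _) ≫ adj.counit.app T.left) ≫ φ.left
      erw [← L.map_comp_assoc, pullback.lift_fst, L.map_comp_assoc, Category.assoc]
      exact congrArg _ (adj.counit.naturality φ.left)
    · show (Over.star U).map ((ofGlue U adj).map φ) ≫ (Over.star U).map (pullback.snd _ _) ≫
          (jAdj U).counit.app T'.right =
        ((Over.star U).map (pullback.snd _ _) ≫ (jAdj U).counit.app T.right) ≫ φ.right
      erw [← (Over.star U).map_comp_assoc, pullback.lift_snd, (Over.star U).map_comp_assoc,
        Category.assoc]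
      exact congrArg _ ((jAdj U).counit.naturality φ.right)

include hU in
theorem isIso_glueCounit (T : Comma (𝟭 (SGA4.closedCompl U).FullSubcategory) (jPush U ⋙ L)) :
    IsIso ((glueCounit U adj).app T) := by
  have H : IsPullback (pullback.fst _ _) (pullback.snd _ _) T.hom.hom
      (adj.unit.app ((jPush U).obj T.right)) := IsPullback.of_hasPullback _ _
  have hH : (jPush U).FullyFaithful :=
    (Adjunction.Triple.mk (Over.forgetAdjStar U) (jAdj U)).fullyFaithfulEquiv
      (have := full_forget hU; Functor.FullyFaithful.ofFullyFaithful _)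
  have := hH.full
  have := hH.faithful
  have hl : IsIso (L.map (pullback.fst T.hom.hom (adj.unit.app ((jPush U).obj T.right)))) :=
    have := preservesFiniteLimits_of_adj hU adj
    (H.map L).isIso_fst_of_isIso
  have hr : IsIso ((Over.star U).map (pullback.snd T.hom.hom (adj.unit.app ((jPush U).obj T.right)))) :=
    have := isIso_star_of_mem U hU T.left.property (L.obj ((jPush U).obj T.right)).property T.hom.hom
    (H.map (Over.star U)).isIso_snd_of_isIso
  have h1 : IsIso ((glueCounit U adj).app T).left :=
    @IsIso.comp_isIso _ _ _ _ _ _ (adj.counit.app T.left) hl inferInstance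
  have h2 : IsIso ((glueCounit U adj).app T).right :=
    @IsIso.comp_isIso _ _ _ _ _ _ ((jAdj U).counit.app T.right) hr inferInstance
  exact Iso.isIso_hom (Comma.isoMk (asIso ((glueCounit U adj).app T).left)
    (asIso ((glueCounit U adj).app T).right) ((glueCounit U adj).app T).w)

include hU adj in
theorem glue : Nonempty (Sheaf J (Type u) ≌
    Comma (𝟭 (SGA4.closedCompl U).FullSubcategory) (jPush U ⋙ L)) := by
  have : ∀ X, IsIso ((glueUnit U adj).app X) := isIso_glueUnit U hU adj
  have : ∀ T, IsIso ((glueCounit U adj).app T) := isIso_glueCounit U hU adj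
  have : IsIso (glueUnit U adj) := NatIso.isIso_of_isIso_app _
  have : IsIso (glueCounit U adj) := NatIso.isIso_of_isIso_app _
  exact ⟨CategoryTheory.Equivalence.mk (toGlue U L) (ofGlue U adj) (asIso (glueUnit U adj))
    (asIso (glueCounit U adj))⟩

end glue

end Groth.Agent.Lib.OpenClosed
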